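import Mathlib
import Groth.Prelude.Def_EtBCD

/-!
# Descent of sections along surjective morphisms (S3517): definitions (helper67)
-/

set_option autoImplicit false
universe u
open CategoryTheory CategoryTheory.Limits AlgebraicGeometry Opposite

namespace Groth.Agent.H67.SecDesc

/-- `Γ(B, f_* M) → Γ(A, M)`: restriction along the unique iso `A ≅ A ×_B B` in `A_et`. -/
noncomputable def theta {A B : Scheme.{u}} (f : A ⟶ B) (M : EtDesc.Sh A) :
    EtDesc.sect ((EtDesc.pushSh f).obj M) (EtCoh.top B) → EtDesc.sect M (EtCoh.top A) :=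
  fun m => M.obj.map (EtCore.bcTopIso f).inv.op m

/-- the morphism `f_* F ⟶ g_* f'_* g'^* F` whose transpose is the base change morphism. -/
noncomputable def alpha {X S X' S' : Scheme.{u}} (f : X ⟶ S) (g : S' ⟶ S) (f' : X' ⟶ S')
    (g' : X' ⟶ X) (w : g' ≫ f = f' ≫ g) (F : EtDesc.Sh X) :
    (EtDesc.pushSh f).obj F ⟶
      (EtDesc.pushSh g).obj ((EtDesc.pushSh f').obj ((EtDesc.pullSh g').obj F)) :=
  (EtDesc.pushSh f).map ((EtDesc.adjSh g').unit.app F) ≫ (EtDesc.pushCompSh f g').hom.app _ ≫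
    (EtBC.pushCongrSh w).hom.app _ ≫ (EtDesc.pushCompSh g f').inv.app _

end Groth.Agent.H67.SecDesc
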