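import Mathlib
import Groth.Prelude.Def_EtBCD
import Groth.Agent.H67.SecDesc.Defs

set_option autoImplicit false

universe u

open CategoryTheory CategoryTheory.Limits AlgebraicGeometry Opposite
open Groth.Agent.H67.SecDesc

namespace Groth.Agent.H67.SecDesc

theorem map_eq_of_isTerminal {C : Type*} [Category C] (G : Cᵒᵖ ⥤ Type*) {T A : C} (hT : IsTerminal T)
    (a b : A ⟶ T) (y : G.obj (op T)) : G.map a.op y = G.map b.op y := by
  rw [hT.hom_ext a b]

theorem map5 {C : Type*} [Category C] (G : Cᵒᵖ ⥤ Type*) {A0 A1 A2 A3 A4 A5 : C}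
    (a1 : A0 ⟶ A1) (a2 : A1 ⟶ A2) (a3 : A2 ⟶ A3) (a4 : A3 ⟶ A4) (a5 : A4 ⟶ A5) (y : G.obj (op A5)) :
    G.map a1.op (G.map a2.op (G.map a3.op (G.map a4.op (G.map a5.op y)))) =
      G.map (a1 ≫ a2 ≫ a3 ≫ a4 ≫ a5).op y := by
  simp only [op_comp, Functor.map_comp_apply]

theorem map2 {C : Type*} [Category C] (G : Cᵒᵖ ⥤ Type*) {A0 A1 A2 : C}
    (a1 : A0 ⟶ A1) (a2 : A1 ⟶ A2) (y : G.obj (op A2)) :
    G.map a1.op (G.map a2.op y) = G.map (a1 ≫ a2).op y := by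
  simp only [op_comp, Functor.map_comp_apply]

theorem theta_alpha {X S X' S' : Scheme.{u}} (f : X ⟶ S) (g : S' ⟶ S) (f' : X' ⟶ S')
    (g' : X' ⟶ X) (w : g' ≫ f = f' ≫ g) (F : EtDesc.Sh X)
    (η : EtDesc.sect ((EtDesc.pushSh f).obj F) (EtCoh.top S)) :
    theta f' ((EtDesc.pullSh g').obj F)
        (theta g ((EtDesc.pushSh f').obj ((EtDesc.pullSh g').obj F))
          ((alpha f g f' g' w F).hom.app (op (EtCoh.top S)) η)) =
      EtDesc.secPull g' F (theta f F η) := by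
  have hT : IsTerminal ((EtCoh.bc g').obj ((EtCoh.bc f).obj (EtCoh.top S))) :=
    IsTerminal.ofIso (EtCore.bcTopIsTerminal g') ((EtCoh.bc g').mapIso (EtCore.bcTopIso f)).symm
  set G := (EtDesc.pullSh g').obj F with hG
  set y := ((EtDesc.adjSh g').unit.app F).hom.app (op ((EtCoh.bc f).obj (EtCoh.top S))) η with hy
  have hnat := NatTrans.naturality_apply ((EtDesc.adjSh g').unit.app F).hom
    (EtCore.bcTopIso f).inv.op η
  have hR : EtDesc.secPull g' F (theta f F η) =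
      G.obj.map ((EtCore.bcTopIso g').inv ≫ (EtCoh.bc g').map (EtCore.bcTopIso f).inv).op y := by
    refine Eq.trans ?_ (map2 G.obj (EtCore.bcTopIso g').inv
      ((EtCoh.bc g').map (EtCore.bcTopIso f).inv) y)
    exact congrArg (fun t => G.obj.map (EtCore.bcTopIso g').inv.op t) hnat
  rw [hR]
  have hL : ∃ a : EtCoh.top X' ⟶ (EtCoh.bc g').obj ((EtCoh.bc f).obj (EtCoh.top S)),
      theta f' G (theta g ((EtDesc.pushSh f').obj G)
          ((alpha f g f' g' w F).hom.app (op (EtCoh.top S)) η)) = G.obj.map a.op y := by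
    refine ⟨(EtCore.bcTopIso f').inv ≫ (EtCoh.bc f').map (EtCore.bcTopIso g).inv ≫
      ((MorphismProperty.Over.pullbackComp (P := EtCoh.etaleMP) (Q := ⊤) f' g).symm :
        EtCoh.bc g ⋙ EtCoh.bc f' ≅ EtCoh.bc (f' ≫ g)).hom.app (EtCoh.top S) ≫
      ((MorphismProperty.Over.pullbackCongr (P := EtCoh.etaleMP) (Q := ⊤) w) :
        EtCoh.bc (g' ≫ f) ≅ EtCoh.bc (f' ≫ g)).inv.app (EtCoh.top S) ≫
      ((MorphismProperty.Over.pullbackComp (P := EtCoh.etaleMP) (Q := ⊤) g' f).symm :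
        EtCoh.bc f ⋙ EtCoh.bc g' ≅ EtCoh.bc (g' ≫ f)).inv.app (EtCoh.top S), ?_⟩
    refine Eq.trans ?_ (map5 G.obj _ _ _ _ _ y)
    rfl
  obtain ⟨a, ha⟩ := hL
  rw [ha]
  exact map_eq_of_isTerminal G.obj hT _ _ y

end Groth.Agent.H67.SecDesc
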