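import Mathlib
import Groth.Prelude.Def_EtBCD
import Groth.Agent.H67.SecDesc.Defs
import Groth.Agent.H67.SecDesc.B1
import Groth.Agent.H73.SecDesc_L0
import Groth.Agent.S3047
import Groth.Agent.S8542

set_option autoImplicit false
universe u
open CategoryTheory CategoryTheory.Limits AlgebraicGeometry Opposite

namespace Groth.Agent.H67.SecDesc

theorem theta_transpose {A B : Scheme.{u}} (f : A ⟶ B) (F : EtDesc.Sh B) (M : EtDesc.Sh A)
    (φ : F ⟶ (EtDesc.pushSh f).obj M) (s : EtDesc.sect F (EtCoh.top B)) :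
    theta f M (φ.hom.app (op (EtCoh.top B)) s) =
      (((EtDesc.adjSh f).homEquiv F M).symm φ).hom.app (op (EtCoh.top A))
        (EtDesc.secPull f F s) :=
  Groth.Agent.H73.SecDesc_L0.theta_transpose f F M φ s

theorem theta_bijective {A B : Scheme.{u}} (f : A ⟶ B) (M : EtDesc.Sh A) :
    Function.Bijective (theta f M) := by
  have : IsIso (M.obj.map (EtCore.bcTopIso f).inv.op) := inferInstance
  exact (isIso_iff_bijective _).1 this

theorem mono_unit_of_faithful {C D : Type*} [Category C] [Category D] {L : C ⥤ D} {R : D ⥤ C}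
    (adj : L ⊣ R) [L.Faithful] (F : C) : Mono (adj.unit.app F) := by
  constructor
  intro Z a b hab
  apply L.map_injective
  have h : ∀ m : Z ⟶ F, L.map m = L.map (m ≫ adj.unit.app F) ≫ adj.counit.app (L.obj F) := by
    intro m
    rw [L.map_comp, Category.assoc, adj.left_triangle_components, Category.comp_id]
  rw [h a, h b, hab]

/-- (M): `Groth.Agent.S8542.result` without the (unused) qcqs hypotheses. -/
theorem mem_range_secPull_of_mono {X Y : Scheme.{u}} (h : Y ⟶ X)
    (hinj : ∀ F : EtDesc.Sh X, Function.Injective (EtDesc.secPull h F))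
    {F G : EtDesc.Sh X} (u : F ⟶ G) [Mono u]
    (ξ : EtDesc.sect ((EtDesc.pullSh h).obj F) (EtCoh.top Y))
    (hξ : ((EtDesc.pullSh h).map u).hom.app (op (EtCoh.top Y)) ξ ∈
      Set.range (EtDesc.secPull h G)) :
    ξ ∈ Set.range (EtDesc.secPull h F) := by
  obtain ⟨g₀, hg₀⟩ := hξ
  haveI : EssentiallySmall.{u + 1} X.Etale := inferInstance
  haveI : HasSubobjectClassifier (EtDesc.Sh X) := inferInstance
  haveI : IsRegularMonoCategory (EtDesc.Sh X) := inferInstance
  let r : RegularMono u := regularMonoOfMono u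
  have hw : u ≫ r.left = u ≫ r.right := r.w
  have key : r.left.hom.app (op (EtCoh.top X)) g₀ = r.right.hom.app (op (EtCoh.top X)) g₀ := by
    apply hinj r.Z
    rw [Groth.Agent.S8542.secPull_nat, Groth.Agent.S8542.secPull_nat, hg₀]
    have e : ((EtDesc.pullSh h).map u ≫ (EtDesc.pullSh h).map r.left) =
        ((EtDesc.pullSh h).map u ≫ (EtDesc.pullSh h).map r.right) := by
      rw [← Functor.map_comp, ← Functor.map_comp, hw]
    exact congrArg (fun t : (EtDesc.pullSh h).obj F ⟶ (EtDesc.pullSh h).obj r.Z =>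
      t.hom.app (op (EtCoh.top Y)) ξ) e
  let E : EtDesc.Sh X ⥤ Type (u + 1) :=
    sheafToPresheaf X.smallEtaleTopology (Type (u + 1)) ⋙
      (evaluation _ _).obj (op (EtCoh.top X))
  have hl := isLimitForkMapOfIsLimit E r.w r.isLimit
  obtain ⟨φ₀, hφ₀, -⟩ := Types.unique_of_type_equalizer _ _ hl g₀ key
  have hφ : u.hom.app (op (EtCoh.top X)) φ₀ = g₀ := hφ₀
  haveI := Groth.Agent.S8542.preservesFiniteLimits_pullSh h
  haveI : Mono ((EtDesc.pullSh h).map u) := inferInstance
  refine ⟨φ₀, Groth.Agent.S8542.injective_of_mono ((EtDesc.pullSh h).map u) (EtCoh.top Y) ?_⟩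
  rw [← Groth.Agent.S8542.secPull_nat, hφ, hg₀]

section Main

variable {X Y Xb Yb : Scheme.{u}} (h : Y ⟶ X) (p : Xb ⟶ X) (hb : Yb ⟶ Xb) (pY : Yb ⟶ Y)
  (w : hb ≫ p = pY ≫ h)

theorem key (Fb : EtDesc.Sh Xb) (η : EtDesc.sect ((EtDesc.pushSh p).obj Fb) (EtCoh.top X)) :
    theta pY ((EtDesc.pullSh hb).obj Fb)
        ((EtBC.baseChange0Sh p h pY hb w Fb).hom.app (op (EtCoh.top Y))
          (EtDesc.secPull h ((EtDesc.pushSh p).obj Fb) η)) =
      EtDesc.secPull hb Fb (theta p Fb η) := by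
  rw [← theta_alpha p h pY hb w Fb η]
  congr 1
  exact (theta_transpose h _ _ (alpha p h pY hb w Fb) η).symm

theorem mono_unit (hp : Function.Surjective p.base) (F : EtDesc.Sh X) :
    Mono ((EtDesc.adjSh p).unit.app F) := by
  haveI : Surjective p := ⟨hp⟩
  haveI : (EtDesc.pullSh p).Faithful := (Groth.Agent.S3047.result p).1
  exact mono_unit_of_faithful (EtDesc.adjSh p) F

theorem secPull_eq_theta (F : EtDesc.Sh X) (s : EtDesc.sect F (EtCoh.top X)) :
    EtDesc.secPull p F s =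
      theta p ((EtDesc.pullSh p).obj F)
        (((EtDesc.adjSh p).unit.app F).hom.app (op (EtCoh.top X)) s) := rfl

include pY w in
theorem part1 (hp : Function.Surjective p.base)
    (hinjb : ∀ Fb : EtDesc.Sh Xb, Function.Injective (EtDesc.secPull hb Fb)) (F : EtDesc.Sh X) :
    Function.Injective (EtDesc.secPull h F) := by
  intro s t hst
  haveI := mono_unit p hp F
  apply Groth.Agent.S8542.injective_of_mono ((EtDesc.adjSh p).unit.app F) (EtCoh.top X)
  apply (theta_bijective p ((EtDesc.pullSh p).obj F)).1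
  apply hinjb ((EtDesc.pullSh p).obj F)
  rw [← key h p hb pY w, ← key h p hb pY w, Groth.Agent.S8542.secPull_nat,
    Groth.Agent.S8542.secPull_nat]
  have hst' : EtDesc.secPull h ((𝟭 (EtDesc.Sh X)).obj F) s =
      EtDesc.secPull h ((𝟭 (EtDesc.Sh X)).obj F) t := hst
  rw [hst']

theorem part2 (hp : Function.Surjective p.base)
    (hbijb : ∀ Fb : EtDesc.Sh Xb, Function.Bijective (EtDesc.secPull hb Fb))
    (hmono : ∀ Fb : EtDesc.Sh Xb, Mono (EtBC.baseChange0Sh p h pY hb w Fb)) (F : EtDesc.Sh X) :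
    Function.Bijective (EtDesc.secPull h F) := by
  have hinj := part1 h p hb pY w hp (fun Fb => (hbijb Fb).1)
  refine ⟨hinj F, fun ξ => ?_⟩
  haveI := mono_unit p hp F
  haveI := hmono ((EtDesc.pullSh p).obj F)
  obtain ⟨σ, hσ⟩ := (hbijb ((EtDesc.pullSh p).obj F)).2
    (theta pY _ ((EtBC.baseChange0Sh p h pY hb w ((EtDesc.pullSh p).obj F)).hom.app
      (op (EtCoh.top Y))
      (((EtDesc.pullSh h).map ((EtDesc.adjSh p).unit.app F)).hom.app (op (EtCoh.top Y)) ξ)))
  obtain ⟨η, hη⟩ := (theta_bijective p ((EtDesc.pullSh p).obj F)).2 σ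
  have hmem : ((EtDesc.pullSh h).map ((EtDesc.adjSh p).unit.app F)).hom.app (op (EtCoh.top Y)) ξ ∈
      Set.range (EtDesc.secPull h ((EtDesc.pushSh p).obj ((EtDesc.pullSh p).obj F))) := by
    refine ⟨η, ?_⟩
    apply Groth.Agent.S8542.injective_of_mono
      (EtBC.baseChange0Sh p h pY hb w ((EtDesc.pullSh p).obj F)) (EtCoh.top Y)
    apply (theta_bijective pY _).1
    rw [key h p hb pY w, hη, hσ]
  exact mem_range_secPull_of_mono h hinj ((EtDesc.adjSh p).unit.app F) ξ hmem

end Main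

theorem main {X Y Xb Yb : Scheme.{u}} (h : Y ⟶ X) (p : Xb ⟶ X)
    (hb : Yb ⟶ Xb) (pY : Yb ⟶ Y) (sq : IsPullback hb pY p h) (hp : Function.Surjective p.base) :
    ((∀ Fb : EtDesc.Sh Xb, Function.Injective (EtDesc.secPull hb Fb)) →
      ∀ F : EtDesc.Sh X, Function.Injective (EtDesc.secPull h F)) ∧
    ((∀ Fb : EtDesc.Sh Xb, Function.Bijective (EtDesc.secPull hb Fb)) →
      (∀ Fb : EtDesc.Sh Xb, Mono (EtBC.baseChange0Sh p h pY hb sq.w Fb)) →
      ∀ F : EtDesc.Sh X, Function.Bijective (EtDesc.secPull h F)) :=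
  ⟨fun hinjb F => part1 h p hb pY sq.w hp hinjb F,
    fun hbijb hmono F => part2 h p hb pY sq.w hp hbijb hmono F⟩

end Groth.Agent.H67.SecDesc
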